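import Groth.Agent.Lib.ProdExt8.Top
import Groth.Agent.Lib.CohFound.HHBridge
import Groth.Agent.Lib.ModM1.Coh
import Groth.Prelude.Def_Formal2
import Mathlib.Algebra.Category.ModuleCat.Sheaf.Limits

/-!
# Cohomology of limits of towers of quasi-coherent modules with surjective transition maps
-/

set_option autoImplicit false
set_option linter.style.haveILetI false
set_option backward.isDefEq.respectTransparency false

universe u

open CategoryTheory CategoryTheory.Limits CategoryTheory.Abelian AlgebraicGeometry TopologicalSpace Opposite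

namespace Groth.Agent.TowerVanH7

section Alg

variable {H : ℕ → Type u} [∀ n, AddCommGroup (H n)] (t : ∀ n, H (n + 1) →+ H n)

theorem subsingleton_limOne_of_surjective (h : ∀ n, Function.Surjective (t n)) : Subsingleton (Formal2.limOne H t) := by
  refine subsingleton_of_forall_eq 0 fun x => ?_
  obtain ⟨y, rfl⟩ := QuotientAddGroup.mk_surjective x
  rw [QuotientAddGroup.eq_zero_iff]
  choose w hw using h
  refine ⟨fun n => Nat.rec 0 (fun n z => w n (z - y n)) n, funext fun n => ?_⟩
  show Nat.rec (motive := H) 0 (fun n z => w n (z - y n)) n - t n (w n (_ - y n)) = y n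
  rw [hw]
  exact sub_sub_cancel _ _

variable {M : Type u} [AddCommGroup M]

theorem subsingleton_of_ker_equiv (π : M →+ ∀ n, H n) (hH : ∀ n, Subsingleton (H n)) {L : Type u} [AddCommGroup L]
    (e : π.ker ≃+ L) (hL : Subsingleton L) : Subsingleton M := by
  refine subsingleton_of_forall_eq 0 fun x => ?_
  have hx : x ∈ π.ker := AddMonoidHom.mem_ker.2 (Subsingleton.elim _ _)
  exact congrArg Subtype.val (e.injective (Subsingleton.elim (e ⟨x, hx⟩) (e 0)))

theorem exists_ses (π : M →+ ∀ n, H n) (hπ : ∀ x n, t n (π x (n + 1)) = π x n) {L : Type u} [AddCommGroup L]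
    (e : π.ker ≃+ L) (hs : ∀ ξ : ∀ n, H n, (∀ n, t n (ξ (n + 1)) = ξ n) → ∃ η, ∀ n, π η n = ξ n) :
    ∃ (α : L →+ M) (β : M →+ Formal2.limZero H t),
      Function.Injective α ∧ Function.Surjective β ∧ α.range = β.ker ∧ ∀ x n, (β x : ∀ n, H n) n = π x n := by
  have hmem : ∀ x, π x ∈ Formal2.limZero H t := fun x =>
    AddMonoidHom.mem_ker.2 (funext fun n => sub_eq_zero.2 (hπ x n).symm)
  refine ⟨(π.ker).subtype.comp e.symm.toAddMonoidHom, π.codRestrict _ hmem,
    Subtype.val_injective.comp e.symm.injective, fun y => ?_, ?_, fun x n => rfl⟩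
  · obtain ⟨η, hη⟩ := hs y.1 fun n => (sub_eq_zero.1 (congrFun (AddMonoidHom.mem_ker.1 y.2) n)).symm
    exact ⟨η, Subtype.ext (funext hη)⟩
  · ext x
    constructor
    · rintro ⟨z, rfl⟩
      exact AddMonoidHom.mem_ker.2 (Subtype.ext (e.symm z).2)
    · intro hx
      exact ⟨e ⟨x, congrArg Subtype.val (AddMonoidHom.mem_ker.1 hx)⟩, congrArg Subtype.val (e.symm_apply_apply _)⟩

end Alg

variable {X : Scheme.{u}} (G : ℕᵒᵖ ⥤ X.Modules) (hq : ∀ n, Coh.IsQCoh (G.obj (op n)))
  (he : ∀ n : ℕ, Epi (G.map (homOfLE (Nat.le_succ n)).op))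

theorem preservesLimitsOfShape_toSheaf :
    PreservesLimitsOfShape ℕᵒᵖ (SheafOfModules.toSheaf.{u} X.ringCatSheaf) := by
  haveI h : PreservesLimitsOfShape ℕᵒᵖ (SheafOfModules.toSheaf.{u} X.ringCatSheaf ⋙ sheafToPresheaf _ _) :=
    preservesLimitsOfShape_of_natIso
      (F := SheafOfModules.forget.{u} X.ringCatSheaf ⋙ PresheafOfModules.toPresheaf _) (Iso.refl _)
  exact @preservesLimitsOfShape_of_reflects_of_preserves _ _ _ _ _ _ _ _
    (SheafOfModules.toSheaf.{u} X.ringCatSheaf) (sheafToPresheaf _ _) h inferInstance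

/-- The limit cone of the underlying abelian sheaves. -/
noncomputable abbrev cn : Cone (G ⋙ CohFound.abF X) := (CohFound.abF X).mapCone (limit.cone G)

noncomputable def isLimitCn : IsLimit (cn G) :=
  haveI : PreservesLimitsOfShape ℕᵒᵖ (CohFound.abF X) := preservesLimitsOfShape_toSheaf
  isLimitOfPreserves _ (limit.isLimit G)

include hq he in
theorem milnor (T : CohTop.Ab (CohFound.sp X)) (i j : ℕ) (hij : j + 1 = i) :
    (∀ ξ : ∀ n, Ext T ((CohFound.abF X).obj (G.obj (op n))) i,
      (∀ n, ProdExt8.mp T ((CohFound.abF X).map (G.map (homOfLE (Nat.le_succ n)).op)) i (ξ (n + 1)) = ξ n) →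
      ∃ η : Ext T ((CohFound.abF X).obj (limit G)) i, ∀ n,
        ProdExt8.mp T ((CohFound.abF X).map (limit.π G (op n))) i η = ξ n) ∧
    Nonempty ((AddMonoidHom.pi fun n => ProdExt8.mp T ((CohFound.abF X).map (limit.π G (op n))) i).ker ≃+
      Formal2.limOne (fun n => Ext T ((CohFound.abF X).obj (G.obj (op n))) j)
        fun n => ProdExt8.mp T ((CohFound.abF X).map (G.map (homOfLE (Nat.le_succ n)).op)) j) := by
  have hB : Opens.IsBasis {U : X.Opens | IsAffineOpen U} := X.isBasis_affineOpens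
  refine ProdExt8.milnor (G ⋙ CohFound.abF X) (P := ProdExt8.AcyclicOn {U : X.Opens | IsAffineOpen U})
    (ProdExt8.prodAcyclic hB) T (fun n V hV p hp => ?_) (cn G) (isLimitCn G)
    (ProdExt8.epi_diff hB _ fun V hV n => ?_) i j hij
  · haveI : (G.obj (op n)).IsQuasicoherent := hq n
    obtain ⟨q, rfl⟩ : ∃ q, p = q + 1 := ⟨p - 1, by omega⟩
    exact CohFound.subsingleton_hc_isAffineOpen (G.obj (op n)) hV q
  · haveI := he n
    exact M1.app_surjective_affine_of_isQCoh (hq (n + 1)) (hq n) (G.map (homOfLE (Nat.le_succ n)).op) hV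

theorem surjective_mp_of_app {T : TopCat.{u}} {U : Opens T} {F K : CohTop.Ab T} (φ : F ⟶ K)
    (h : Function.Surjective (φ.hom.app (op U)).hom) :
    Function.Surjective (ProdExt8.mp (SiteCoh.fr (Opens.grothendieckTopology T) U) φ 0) := fun v => by
  obtain ⟨ψ, rfl⟩ := (Ext.mk₀_bijective _ _).2 v
  obtain ⟨s, hs⟩ := h (SiteCoh.secEquiv U _ ψ)
  refine ⟨Ext.mk₀ ((SiteCoh.secEquiv U _).symm s), ?_⟩
  rw [ProdExt8.mp_apply, Ext.mk₀_comp_mk₀]
  exact congrArg Ext.mk₀ ((SiteCoh.secEquiv_symm_comp U s _).trans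
    ((congrArg (SiteCoh.secEquiv U _).symm hs).trans (Equiv.symm_apply_apply _ _)))

theorem freeU_eq {T : TopCat.{u}} (U : Opens T) :
    CohFound.freeU U = SiteCoh.fr (Opens.grothendieckTopology T) U := rfl

include hq he in
theorem surjective_app_affine {U : X.Opens} (hU : IsAffineOpen U) (n : ℕ) :
    Function.Surjective (((CohFound.abF X).map (G.map (homOfLE (Nat.le_succ n)).op)).hom.app (op U)).hom :=
  haveI := he n
  M1.app_surjective_affine_of_isQCoh (hq (n + 1)) (hq n) (G.map (homOfLE (Nat.le_succ n)).op) hU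

include hq he in
theorem surjective_hom_affine {U : X.Opens} (hU : IsAffineOpen U) (n : ℕ) :
    Function.Surjective (ProdExt8.mp (CohFound.freeU U)
      ((CohFound.abF X).map (G.map (homOfLE (Nat.le_succ n)).op)) 0) := by
  rw [freeU_eq]
  exact surjective_mp_of_app _ (surjective_app_affine G hq he hU n)

include hq in
theorem subsingleton_obj {U : X.Opens} (hU : IsAffineOpen U) (q n : ℕ) :
    Subsingleton (Ext (CohFound.freeU U) ((CohFound.abF X).obj (G.obj (op n))) (q + 1)) :=
  haveI : (G.obj (op n)).IsQuasicoherent := hq n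
  CohFound.subsingleton_hc_isAffineOpen (G.obj (op n)) hU q

include hq he in
theorem subsingleton_hc {U : X.Opens} (hU : IsAffineOpen U) (q : ℕ) :
    Subsingleton (CohFound.Hc ((CohFound.abF X).obj (limit G)) (q + 1) U) := by
  obtain ⟨-, ⟨e⟩⟩ := milnor G hq he (CohFound.freeU U) (q + 1) q rfl
  refine subsingleton_of_ker_equiv _ (subsingleton_obj G hq hU q) e (subsingleton_limOne_of_surjective _ fun n => ?_)
  rcases q with _ | q
  · exact surjective_hom_affine G hq he hU n
  · exact fun v => ⟨0, (subsingleton_obj G hq hU q n).elim _ _⟩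

include hq he in
theorem subsingleton_HHon {U : X.Opens} (hU : IsAffineOpen U) (p : ℕ) (hp : 0 < p) :
    Subsingleton (Coh.HHon X (limit G) U p) := by
  obtain ⟨q, rfl⟩ : ∃ q, p = q + 1 := ⟨p - 1, by omega⟩
  obtain ⟨e⟩ := CohFound.nonempty_HHon_addEquiv (limit G) U (q + 1)
  haveI := subsingleton_hc G hq he hU q
  exact e.injective.subsingleton

/-- The maps to the levels on cohomology. -/
noncomputable abbrev piHH (p : ℕ) : Coh.HH X (limit G) p →+ ∀ n, Coh.HH X (G.obj (op n)) p :=
  AddMonoidHom.pi fun n => Sheaf.H.map ((SheafOfModules.toSheaf _).map (limit.π G (op n))) p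

theorem piHH_comp (p : ℕ) (x : Coh.HH X (limit G) p) (n : ℕ) :
    Formal2.HHsysMap G p n (piHH G p x (n + 1)) = piHH G p x n := by
  refine (ProdExt8.mp_mp _ _ _ p x).trans ?_
  rw [← (SheafOfModules.toSheaf _).map_comp, limit.w]
  rfl

include hq he in
/-- The Milnor sequence for global cohomology. -/
theorem milnor_HH (p : ℕ) :
    ∃ (α : Formal2.limOne (fun n => Coh.HH X (G.obj (op n)) p) (Formal2.HHsysMap G p) →+
        Coh.HH X (limit G) (p + 1))
      (β : Coh.HH X (limit G) (p + 1) →+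
        Formal2.limZero (fun n => Coh.HH X (G.obj (op n)) (p + 1)) (Formal2.HHsysMap G (p + 1))),
      Function.Injective α ∧ Function.Surjective β ∧ α.range = β.ker ∧
      ∀ (x : Coh.HH X (limit G) (p + 1)) (n : ℕ),
        (β x : ∀ n, Coh.HH X (G.obj (op n)) (p + 1)) n =
          Sheaf.H.map ((SheafOfModules.toSheaf _).map (limit.π G (op n))) (p + 1) x := by
  obtain ⟨hs, ⟨e⟩⟩ := milnor G hq he ((constantSheaf _ AddCommGrpCat.{u}).obj (AddCommGrpCat.of (ULift ℤ))) (p + 1) p rfl
  exact exists_ses (Formal2.HHsysMap G (p + 1)) (piHH G (p + 1)) (piHH_comp G (p + 1)) e hs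

end Groth.Agent.TowerVanH7
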